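import Groth.Agent.H23.DblAlg
import Groth.Agent.H23.FinTrace
import Groth.Agent.QCoh.AffineCohom
import Groth.Agent.QCoh.Ab.PushNat
import Groth.Agent.QCoh.Qcqs
import Groth.Agent.QCoh.HHExact
import Groth.Agent.QCoh.Sections
import Groth.Prelude.Def_Frob
import Groth.Prelude.Def_ClSub2

/-! The cohomology of the cokernel of the unit of Frobenius descends along double covers, `p` odd. -/

set_option autoImplicit false
universe u

open CategoryTheory CategoryTheory.Limits AlgebraicGeometry TopologicalSpace Opposite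
open CategoryTheory.Abelian

namespace Groth.Agent.FrobB1

theorem trace_pow_fin_two {R : Type*} [CommRing R] {p : ℕ} (hp : p.Prime) (hodd : p ≠ 2)
    (hR : (p : R) = 0) (M : Matrix (Fin 2) (Fin 2) R) : (M ^ p).trace = M.trace ^ p := by
  obtain ⟨m, hm⟩ := hp.odd_of_ne_two hodd
  let h : R := ((m + 1 : ℕ) : R)
  have h2 : 2 * h = 1 := by
    have e : 2 * h = ((p : R) + 1) := by
      simp only [h, hm]; push_cast; ring
    rw [e, hR, zero_add]
  have htwo : (2 : R) ^ p = 2 := by
    rcases subsingleton_or_nontrivial R with _ | _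
    · exact Subsingleton.elim _ _
    · haveI : Fact p.Prime := ⟨hp⟩
      haveI : CharP R p := (CharP.charP_iff_prime_eq_zero hp).2 hR
      simpa only [Nat.cast_ofNat, frobenius_def] using map_natCast (frobenius R p) 2
  set c : R := h * M.trace with hc
  set N : Matrix (Fin 2) (Fin 2) R := M - c • 1 with hN
  have htN : N.trace = 0 := by
    rw [hN, Matrix.trace_sub, Matrix.trace_smul, Matrix.trace_one, Fintype.card_fin, smul_eq_mul, hc]
    linear_combination -(M.trace) * h2
  have h11 : N 1 1 = -(N 0 0) := by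
    rw [Matrix.trace_fin_two] at htN; linear_combination htN
  have hNN : N * N = (N 0 0 ^ 2 + N 0 1 * N 1 0) • (1 : Matrix (Fin 2) (Fin 2) R) := by
    ext i j
    fin_cases i <;> fin_cases j <;> simp [Matrix.mul_apply, Fin.sum_univ_two, h11] <;> ring
  have hNp : (N ^ p).trace = 0 := by
    rw [hm, pow_succ, pow_mul, pow_two, hNN, smul_pow, one_pow, smul_mul_assoc, one_mul,
      Matrix.trace_smul, htN, smul_zero]
  obtain ⟨r, hr⟩ := (((Commute.one_left N).smul_left c)).exists_add_pow_prime_eq hp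
  have hM : c • (1 : Matrix (Fin 2) (Fin 2) R) + N = M := by rw [hN, add_sub_cancel]
  rw [hM] at hr
  have hzero : ((p : ℕ) : Matrix (Fin 2) (Fin 2) R) = 0 := by
    rw [← map_natCast (algebraMap R (Matrix (Fin 2) (Fin 2) R)) p, hR, map_zero]
  rw [hr]
  simp only [hzero, zero_mul, add_zero, Matrix.trace_add, hNp, smul_pow, one_pow, Matrix.trace_smul,
    Matrix.trace_one, Fintype.card_fin, smul_eq_mul, Nat.cast_ofNat]
  rw [hc, mul_pow, mul_comm (h ^ p), mul_assoc, ← htwo]
  rw [← mul_pow, mul_comm h 2, h2, one_pow, mul_one]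

theorem trace_pow_of_basis {R S : Type*} [CommRing R] [CommRing S] [Algebra R S] {p : ℕ}
    (hp : p.Prime) (hodd : p ≠ 2) (hR : (p : R) = 0) (b : Module.Basis (Fin 2) R S) (a : S) :
    Algebra.trace R S (a ^ p) = Algebra.trace R S a ^ p := by
  classical
  rw [Algebra.trace_eq_matrix_trace b, Algebra.trace_eq_matrix_trace b, map_pow,
    trace_pow_fin_two hp hodd hR]

open Groth.Agent.H23

variable {X Y : Scheme.{u}} (f : Y ⟶ X) [QuasiCompact f] [QuasiSeparated f]

theorem exists_retraction (p : ℕ) [Fact p.Prime] (hp : p ≠ 2) [FrobSch.IsCharP X p]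
    (h2 : FlatMod.IsFinLocFreeOfRank 2 ((Scheme.Modules.pushforward f).obj (Coh.structureModule Y))) :
    ∃ r : ∀ W : X.Opens, Γ(Y, f ⁻¹ᵁ W) → Γ(X, W),
      (∀ W a b, r W (a + b) = r W a + r W b) ∧
      (∀ (W W' : X.Opens) (h : W' ≤ W) a,
        r W' (Y.presheaf.map (homOfLE (f.preimage_mono h)).op a) =
          X.presheaf.map (homOfLE h).op (r W a)) ∧
      (∀ W c, r W (f.app W c) = c) ∧ ∀ W a, r W (a ^ p) = r W a ^ p := by
  let A : RelSpec.QCAlg X := RelSpec.QCAlg.directImage f
  have h2' : FlatMod.IsFinLocFreeOfRank 2 A.toModule := h2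
  have hA : FlatMod.IsFinLocFree A.toModule := DblAlg.isFinLocFree_of_rank h2'
  choose U hU e using h2'
  choose s hs using fun x => Frame.exists_frame (e x).some
  have hs' : ∀ x, FinTrace.IsFrameA A (s x) := fun x => hs x
  obtain ⟨m, hm⟩ := (Fact.out : p.Prime).odd_of_ne_two hp
  let h : ∀ W : X.Opens, Γ(X, W) := fun W => ((m + 1 : ℕ) : Γ(X, W))
  have hh : ∀ W, h W * 2 = 1 := fun W => by
    have e : h W * 2 = ((p : ℕ) : Γ(X, W)) + 1 := by
      simp only [h, hm]; push_cast; ring
    rw [e, FrobSch.natCast_eq_zero_app X p W, zero_add]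
  have hhp : ∀ W, h W ^ p = h W := fun W => by
    rcases subsingleton_or_nontrivial Γ(X, W) with _ | _
    · exact Subsingleton.elim _ _
    · haveI : CharP Γ(X, W) p :=
        (CharP.charP_iff_prime_eq_zero Fact.out).2 (FrobSch.natCast_eq_zero_app X p W)
      exact map_natCast (frobenius Γ(X, W) p) (m + 1)
  have hcover : ∀ (W : X.Opens) {v w : Γ(X, W)}, (∀ x, X.presheaf.map (homOfLE (inf_le_right : U x ⊓ W ≤ W)).op v
      = X.presheaf.map (homOfLE (inf_le_right : U x ⊓ W ≤ W)).op w) → v = w := fun W v w H =>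
    X.sheaf.eq_of_locally_eq' (fun x : X => U x ⊓ W) W (fun x => homOfLE inf_le_right)
      (fun x hx => Opens.mem_iSup.mpr ⟨x, hU x, hx⟩) _ _ H
  have hsm : ∀ x W, FinTrace.Small A (U x ⊓ W) := fun x W => ⟨2, U x, s x, hs' x, inf_le_left⟩
  refine ⟨fun W a => h W * FinTrace.trGlue hA W a, fun W a b => ?_, fun W W' hle a => ?_,
    fun W c => ?_, fun W a => ?_⟩
  · exact (congrArg (h W * ·) (FinTrace.trGlue_add hA W a b)).trans (mul_add _ _ _)
  · refine (congrArg (h W' * ·) (FinTrace.trGlue_res hA hle a)).trans ?_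
    simp only [h, map_mul, map_natCast]
  · refine (congrArg (h W * ·) (?_ : FinTrace.trGlue hA W (f.app W c) = 2 * c)).trans
      (by rw [← mul_assoc, hh, one_mul])
    refine hcover W fun x => ?_
    refine (FinTrace.trGlue_spec hA W _ _ inf_le_right (hsm x W)).trans ?_
    refine (congrArg (FinTrace.trW A _) (FinTrace.str_res A inf_le_right c)).trans ?_
    rw [FinTrace.trW_algebraMap A (hs' x) inf_le_left, map_mul, map_ofNat, nsmul_eq_mul, Nat.cast_ofNat]
  · refine (congrArg (h W * ·) (?_ : FinTrace.trGlue hA W (a ^ p) = FinTrace.trGlue hA W a ^ p)).trans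
      (by rw [mul_pow, hhp])
    refine hcover W fun x => ?_
    refine (FinTrace.trGlue_spec hA W _ _ inf_le_right (hsm x W)).trans ?_
    refine (congrArg (FinTrace.trW A _)
      (map_pow (A.presheaf.map (homOfLE (inf_le_right : U x ⊓ W ≤ W)).op).hom a p)).trans ?_
    refine Eq.trans ?_ (map_pow (X.presheaf.map (homOfLE (inf_le_right : U x ⊓ W ≤ W)).op).hom _ p).symm
    refine Eq.trans ?_ (congrArg (· ^ p) (FinTrace.trGlue_spec hA W a _ inf_le_right (hsm x W)).symm)
    letI := FinTrace.alg A (U x ⊓ W)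
    exact trace_pow_of_basis Fact.out hp (FrobSch.natCast_eq_zero_app X p _)
      (FinTrace.basisA A (hs' x) _ inf_le_left) _

omit [QuasiCompact f] [QuasiSeparated f]

/-- A retraction of cohomology maps preserves bijectivity. -/
theorem bijective_of_retract {A B C D : Type*} [AddCommGroup A] [AddCommGroup B] [AddCommGroup C]
    [AddCommGroup D] (u : A →+ B) (g : C →+ D) (i₀ : A →+ C) (i₁ : B →+ D) (r₀ : C →+ A)
    (r₁ : D →+ B) (hi : ∀ x, i₁ (u x) = g (i₀ x)) (hr : ∀ y, r₁ (g y) = u (r₀ y))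
    (h₀ : ∀ x, r₀ (i₀ x) = x) (h₁ : ∀ z, r₁ (i₁ z) = z) (hg : Function.Bijective g) :
    Function.Bijective u := by
  refine ⟨(injective_iff_map_eq_zero u).2 fun x hx => ?_, fun z => ?_⟩
  · have : i₀ x = 0 := hg.1 (by rw [← hi, hx, map_zero, map_zero])
    rw [← h₀ x, this, map_zero]
  · obtain ⟨w, hw⟩ := hg.2 (i₁ z)
    exact ⟨r₀ w, by rw [← hr, hw, h₁]⟩

/-- A monomorphism gives bijections in cohomology iff its cokernel is acyclic in all degrees. -/
theorem bijective_iff_subsingleton {X : Scheme.{u}} {A B : X.Modules} (φ : A ⟶ B) [Mono φ] :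
    (∀ i, Function.Bijective (Sheaf.H.map ((QCoh.toAbFunctor X).map φ) i)) ↔
      ∀ i, Subsingleton (Coh.HH X (cokernel φ) i) := by
  let S : ShortComplex X.Modules := ShortComplex.mk φ (cokernel.π φ) (cokernel.condition φ)
  have hS : S.ShortExact := { exact := ShortComplex.exact_of_g_is_cokernel _ (cokernelIsCokernel φ) }
  have hT := QCoh.toAb_shortExact hS
  let T := S.map (QCoh.toAbFunctor X)
  constructor
  · intro hb i
    refine subsingleton_of_forall_eq 0 fun x => ?_
    have h1 : (x : Sheaf.H T.X₃ i).comp hT.extClass (rfl : i + 1 = i + 1) = 0 := by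
      apply (hb (i + 1)).1
      refine Eq.trans ?_ (map_zero _).symm
      show ((x : Sheaf.H T.X₃ i).comp hT.extClass rfl).comp (Ext.mk₀ T.f) (add_zero _) = 0
      rw [Ext.comp_assoc_of_third_deg_zero]
      exact (congrArg (fun z => Ext.comp x z rfl) hT.extClass_comp).trans (Ext.comp_zero _ _ _ _ _)
    obtain ⟨y, hy⟩ := Ext.covariant_sequence_exact₃ _ hT x rfl h1
    obtain ⟨z, rfl⟩ := (hb i).2 y
    refine hy.symm.trans ?_
    show ((z : Sheaf.H T.X₁ i).comp (Ext.mk₀ T.f) (add_zero i)).comp (Ext.mk₀ T.g) (add_zero i) = 0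
    rw [Ext.comp_assoc_of_third_deg_zero, Ext.mk₀_comp_mk₀]
    exact (congrArg (fun w => Ext.comp z (Ext.mk₀ w) (add_zero i)) T.zero).trans
      ((congrArg (fun w => Ext.comp z w (add_zero i)) (Ext.mk₀_zero _ _)).trans (Ext.comp_zero _ _ _ _ _))
  · intro hc i
    refine ⟨(injective_iff_map_eq_zero _).2 fun x hx => ?_, fun y => ?_⟩
    · cases i with
      | zero =>
        obtain ⟨ψ, rfl⟩ := (Ext.mk₀_bijective _ _).2 x
        have h0 : Ext.mk₀ (ψ ≫ T.f) = 0 := (Ext.mk₀_comp_mk₀ ψ T.f).symm.trans hx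
        have : Mono T.f := hT.mono_f
        exact (congrArg Ext.mk₀ (zero_of_comp_mono T.f
          ((Ext.mk₀_bijective _ _).1 (h0.trans (Ext.mk₀_zero _ _).symm)))).trans (Ext.mk₀_zero _ _)
      | succ i =>
        obtain ⟨y, rfl⟩ := Ext.covariant_sequence_exact₁ _ hT x hx (n₀ := i) rfl
        exact (congrArg (fun w => Ext.comp w hT.extClass (rfl : i + 1 = i + 1)) (@Subsingleton.elim _ (hc i) y 0)).trans
          (Ext.zero_comp _ _ _ _ _)
    · exact Ext.covariant_sequence_exact₂ _ hT y (@Subsingleton.elim _ (hc i) _ _)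

end Groth.Agent.FrobB1
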